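import Mathlib

set_option autoImplicit false

/-!
S0454, piece P4a: a cover of `A11` of index < 11 is normal.
-/

namespace Cfsg.Agent.LyZ

open Subgroup

theorem normal11 {G : Type*} [Group G] [Finite G] (C C₀ : Subgroup G) (hle : C₀ ≤ C) (z : G)
    (hcz : ∀ c ∈ C, c * z = z * c) (f : C₀ →* alternatingGroup (Fin 11)) (hf : Function.Surjective f)
    (hker : ∀ x : C₀, f x = 1 ↔ (x : G) ∈ Subgroup.zpowers z) (hlt : C₀.relIndex C < 11) :
    ∀ c ∈ C, ∀ x ∈ C₀, c * x * c⁻¹ ∈ C₀ := by
  classical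
  haveI : IsSimpleGroup (alternatingGroup (Fin 11)) :=
    alternatingGroup.isSimpleGroup (by simp)
  set K := C₀.subgroupOf C with hK
  let ψ : C₀ →* Equiv.Perm (C ⧸ K) := (MulAction.toPermHom C (C ⧸ K)).comp (Subgroup.inclusion hle)
  have hψ : ∀ (x : C₀), x ∈ ψ.ker ↔ ∀ c : C, (c : G)⁻¹ * x * c ∈ C₀ := by
    intro x
    rw [MonoidHom.mem_ker]
    constructor
    · intro h c
      have h1 : ψ x (QuotientGroup.mk c : C ⧸ K) = QuotientGroup.mk c := by rw [h]; rfl
      have h2 : (QuotientGroup.mk (Subgroup.inclusion hle x * c) : C ⧸ K) = QuotientGroup.mk c := h1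
      rw [eq_comm, QuotientGroup.eq, hK, Subgroup.mem_subgroupOf] at h2
      have h3 : ((c⁻¹ * (Subgroup.inclusion hle x * c) : C) : G) = (c : G)⁻¹ * x * c := by
        push_cast
        rw [Subgroup.coe_inclusion, mul_assoc]
      rwa [h3] at h2
    · intro h
      ext q
      obtain ⟨c, rfl⟩ := QuotientGroup.mk_surjective q
      change (QuotientGroup.mk (Subgroup.inclusion hle x * c) : C ⧸ K) = QuotientGroup.mk c
      rw [eq_comm, QuotientGroup.eq, hK, Subgroup.mem_subgroupOf]
      have h3 : ((c⁻¹ * (Subgroup.inclusion hle x * c) : C) : G) = (c : G)⁻¹ * x * c := by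
        push_cast
        rw [Subgroup.coe_inclusion, mul_assoc]
      rw [h3]
      exact h c
  have hle' : f.ker ≤ ψ.ker := by
    intro x hx
    rw [MonoidHom.mem_ker, hker] at hx
    rw [hψ]
    intro c
    obtain ⟨n, hn⟩ := mem_zpowers_iff.1 hx
    have h1 : (x : G) * c = c * x := by
      rw [← hn]
      exact ((show Commute (c : G) z from hcz c c.2).zpow_right n).eq.symm
    rw [mul_assoc, h1, inv_mul_cancel_left]
    exact x.2
  have hnorm : (ψ.ker.map f).Normal := Subgroup.Normal.map inferInstance f hf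
  rcases hnorm.eq_bot_or_eq_top with h | h
  · exfalso
    have h1 : ψ.ker ≤ f.ker := by
      intro x hx
      have : f x ∈ ψ.ker.map f := ⟨x, hx, rfl⟩
      rw [h, Subgroup.mem_bot] at this
      exact this
    have h2 : ψ.ker = f.ker := le_antisymm h1 hle'
    have h3 : Nat.card (alternatingGroup (Fin 11)) = Nat.card ψ.range := by
      rw [← Subgroup.index_ker ψ, h2, Subgroup.index_ker f, MonoidHom.range_eq_top.2 hf]
      exact (Nat.card_congr (Equiv.Set.univ _)).symm
    have h4 : Nat.card ψ.range ≤ Nat.card (Equiv.Perm (C ⧸ K)) := Subgroup.card_le_card_group _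
    rw [Nat.card_perm] at h4
    have h5 : Nat.card (C ⧸ K) ≤ 10 := by
      have : Nat.card (C ⧸ K) = C₀.relIndex C := rfl
      omega
    have h6 := Nat.factorial_le h5
    have h7 : Nat.card (alternatingGroup (Fin 11)) = 19958400 := by
      rw [nat_card_alternatingGroup]
      simp [Nat.factorial]
    rw [← h3, h7] at h4
    have h8 : Nat.factorial 10 = 3628800 := by decide
    omega
  · intro c hc x hx
    have h1 : f ⟨x, hx⟩ ∈ ψ.ker.map f := by rw [h]; exact mem_top _
    obtain ⟨k, hk, hkx⟩ := h1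
    have h2 : (⟨x, hx⟩ : C₀) * k⁻¹ ∈ ψ.ker := hle' (by
      rw [MonoidHom.mem_ker, map_mul, map_inv, hkx, mul_inv_cancel])
    have h3 : (⟨x, hx⟩ : C₀) ∈ ψ.ker := by
      have := mul_mem h2 hk
      rwa [inv_mul_cancel_right] at this
    have h4 := (hψ _).1 h3 ⟨c⁻¹, C.inv_mem hc⟩
    simpa using h4

end Cfsg.Agent.LyZ
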